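import Cfsg.Agent.H92.RootInvClass
import Cfsg.Prelude.Def_QuasithinSetup

/-! Normal subgroups of a group generated by a connected class of root involutions with a line. -/

set_option autoImplicit false

namespace Cfsg.Agent.H92.RI

open Cfsg
open scoped commutatorElement

variable {G : Type*} [Group G] {D : Set G}

variable (hD : IsRootInvolutionSet D) (hc : IsConnectedSet (OddAdj D) D)
  (hDD : (D ∩ commutingProducts D).Nonempty)
include hD hc

lemma eq_top_of_mem {N : Subgroup G} [hN : N.Normal] {d : G} (hd : d ∈ D) (hdN : d ∈ N) :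
    N = ⊤ := by
  rw [eq_top_iff, ← hD.generates, Subgroup.closure_le]
  intro e he
  obtain ⟨g, rfl⟩ := exists_conj_of_reach hD (hc d hd e he)
  exact hN.conj_mem d hdN g

include hDD

lemma exists_partner {d : G} (hd : d ∈ D) : ∃ b, b ∈ productPartners D d := by
  obtain ⟨x, hxD, a, ha, b, hb, hab, h1, rfl⟩ := hDD
  have hba : b ≠ a := by
    rintro rfl; exact h1 (sq_one hD hb)
  obtain ⟨g, rfl⟩ := exists_conj_of_reach hD (hc a ha d hd)
  refine ⟨g * b * g⁻¹, ⟨hD.conj_mem b hb g, ?_, fun h => hba (by simpa using h)⟩, ?_⟩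
  · calc g * b * g⁻¹ * (g * a * g⁻¹) = g * (b * a) * g⁻¹ := by group
      _ = g * (a * b) * g⁻¹ := by rw [hab]
      _ = g * a * g⁻¹ * (g * b * g⁻¹) := by group
  · rw [show g * b * g⁻¹ * (g * a * g⁻¹) = g * (b * a) * g⁻¹ by group, ← hab]
    exact hD.conj_mem _ hxD g

lemma no_odd_in_coset {N : Subgroup G} [hN : N.Normal] (hne : N ≠ ⊤) {d x : G}
    (hx : OddAdj D d x) (hmem : d⁻¹ * x ∈ N) : False := by
  obtain ⟨b, hb⟩ := exists_partner hD hc hDD hx.1
  obtain ⟨hbD, hbd, -, hfD⟩ := partner_facts hD hb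
  have hdd := sq_one hD hx.1
  have hbb := sq_one hD hbD
  have hxd : QuotientGroup.mk' N x = QuotientGroup.mk' N d :=
    ((QuotientGroup.eq).mpr hmem).symm
  have key : ∀ y ∈ D, OddAdj D x y → (d * y) * (d * y) = 1 → d * y ∈ N := by
    intro y hy ho h2
    have e : QuotientGroup.mk' N (x * y) = QuotientGroup.mk' N (d * y) := by
      rw [map_mul, map_mul, hxd]
    have h3 : orderOf (QuotientGroup.mk' N (d * y)) ∣ 1 := by
      have a2 : orderOf (QuotientGroup.mk' N (d * y)) ∣ 2 := by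
        apply orderOf_dvd_of_pow_eq_one
        rw [pow_two, ← map_mul, h2, map_one]
      have a1 : orderOf (QuotientGroup.mk' N (d * y)) ∣ orderOf (x * y) := by
        rw [← e]; exact orderOf_map_dvd _ _
      rw [← Nat.Coprime.gcd_eq_one ((Nat.coprime_two_left).mpr ho.2.2.2)]
      exact Nat.dvd_gcd a2 a1
    have := orderOf_eq_one_iff.mp (Nat.dvd_one.mp h3)
    exact (QuotientGroup.eq_one_iff _).mp this
  have hdb : d * b * (d * b) = 1 := by
    rw [← pow_two]; exact sq_eq_one_of_comm hD hx.1 hbD hbd.symm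
  rcases odd_or_odd hD hb hx with h | h
  · have := key b hbD h hdb
    rw [← hbd] at this
    exact hne (eq_top_of_mem hD hc hfD this)
  · have e : d * (b * d) = b := by rw [hbd, ← mul_assoc, hdd, one_mul]
    have := key (b * d) hfD h (by rw [e, hbb])
    rw [e] at this
    exact hne (eq_top_of_mem hD hc hbD this)

variable [Finite G]

lemma commutator_mem_core {N : Subgroup G} [hN : N.Normal] (hne : N ≠ ⊤) {d n : G} (hd : d ∈ D)
    (hn : n ∈ N) : d * n * d⁻¹ * n⁻¹ ∈ Cfsg.pCore 2 G := by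
  haveI : Fact (Nat.Prime 2) := ⟨Nat.prime_two⟩
  let K : Subgroup G := N ⊔ Subgroup.zpowers d
  have hNK : N ≤ K := le_sup_left
  have hdK : d ∈ K := (le_sup_right : Subgroup.zpowers d ≤ K) (Subgroup.mem_zpowers d)
  have hK : ∀ k ∈ K, QuotientGroup.mk' N (k * d * k⁻¹) = QuotientGroup.mk' N d := by
    intro k hk
    obtain ⟨u, hu, v, ⟨i, rfl⟩, rfl⟩ := Subgroup.mem_sup_of_normal_left.mp hk
    have hu' : QuotientGroup.mk' N u = 1 := (QuotientGroup.eq_one_iff u).mpr hu
    simp only [map_mul, map_inv, map_zpow, hu', one_mul]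
    group
  obtain ⟨M, hM, hM2, hdM⟩ : ∃ M : Subgroup K, M.Normal ∧ IsPGroup 2 M ∧ (⟨d, hdK⟩ : K) ∈ M := by
    refine Cfsg.Agent.H28.baer_suzuki_element _ fun g => ?_
    have hg : (g : G) * d * (g : G)⁻¹ ∈ D := hD.conj_mem d hd g
    refine Cfsg.Agent.H28.isPGroup_closure_pair (a := 2) ?_ ?_ ?_
    · rw [← Subgroup.orderOf_coe]; exact hD.orderOf_eq d hd
    · rw [← Subgroup.orderOf_coe]; exact hD.orderOf_eq _ hg
    rw [← Subgroup.orderOf_coe]
    push_cast
    rcases hD.pair d hd _ hg with h | h | h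
    · exact (orderOf_dvd_of_pow_eq_one (sq_eq_one_of_comm hD hd hg h)).trans (by norm_num)
    · by_cases e : d = (g : G) * d * (g : G)⁻¹
      · rw [← e, sq_one hD hd, orderOf_one]; norm_num
      · exact (no_odd_in_coset hD hc hDD hne ⟨hd, hg, e, h⟩
          (QuotientGroup.eq.mp (hK g g.2).symm)).elim
    · rw [h.1]
  -- the part of `M` inside `N` lies in `O₂(N)`
  have hcN : d * n * d⁻¹ * n⁻¹ ∈ N := mul_mem (hN.conj_mem n hn d) (inv_mem hn)
  have hcM : (⟨d * n * d⁻¹ * n⁻¹, hNK hcN⟩ : K) ∈ M := by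
    have e : (⟨d * n * d⁻¹ * n⁻¹, hNK hcN⟩ : K)
        = ⟨d, hdK⟩ * (⟨n, hNK hn⟩ * ⟨d, hdK⟩⁻¹ * ⟨n, hNK hn⟩⁻¹) := by
      ext; simp [mul_assoc]
    rw [e]
    exact mul_mem hdM (hM.conj_mem _ (inv_mem hdM) _)
  let L : Subgroup N := M.comap (Subgroup.inclusion hNK)
  have hLn : L.Normal := Subgroup.Normal.comap hM _
  have hL2 : IsPGroup 2 L := hM2.comap_of_injective _ (Subgroup.inclusion_injective hNK)
  have hmem : (⟨_, hcN⟩ : N) ∈ Cfsg.pCore 2 N := Cfsg.Agent.H19.le_pCore hLn hL2 hcM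
  have hchar : (Cfsg.pCore 2 N).Characteristic := Cfsg.Agent.H19.pCore_characteristic 2 N
  have hnorm : ((Cfsg.pCore 2 N).map N.subtype).Normal :=
    ConjAct.normal_of_characteristic_of_normal
  exact Cfsg.Agent.H19.le_pCore hnorm ((Cfsg.Agent.H19.pCore_isPGroup 2).map N.subtype)
    (Subgroup.mem_map_of_mem N.subtype hmem)

lemma le_twoZCore {N : Subgroup G} [hN : N.Normal] (hne : N ≠ ⊤) : N ≤ twoZCore G := by
  intro n hn
  haveI := Cfsg.Agent.H19.pCore_normal 2 G
  show QuotientGroup.mk' (Cfsg.pCore 2 G) n ∈ Subgroup.center _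
  have h : Subgroup.closure D ≤
      (Subgroup.centralizer {QuotientGroup.mk' (Cfsg.pCore 2 G) n}).comap
        (QuotientGroup.mk' (Cfsg.pCore 2 G)) := by
    rw [Subgroup.closure_le]
    intro d hd
    rw [SetLike.mem_coe, Subgroup.mem_comap, Subgroup.mem_centralizer_singleton_iff]
    have := (QuotientGroup.eq_one_iff _).mpr (commutator_mem_core hD hc hDD hne hd hn)
    have h' : QuotientGroup.mk' (Cfsg.pCore 2 G) d * QuotientGroup.mk' (Cfsg.pCore 2 G) n *
        (QuotientGroup.mk' (Cfsg.pCore 2 G) d)⁻¹ * (QuotientGroup.mk' (Cfsg.pCore 2 G) n)⁻¹ = 1 := by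
      rw [← map_inv, ← map_inv, ← map_mul, ← map_mul, ← map_mul]; exact this
    rw [mul_inv_eq_one] at h'
    exact mul_inv_eq_iff_eq_mul.mp h'
  rw [hD.generates] at h
  rw [Subgroup.mem_center_iff]
  intro y
  obtain ⟨y, rfl⟩ := QuotientGroup.mk'_surjective _ y
  exact Subgroup.mem_centralizer_singleton_iff.mp (h (Subgroup.mem_top y))

lemma exists_odd_edge : ∃ d x, OddAdj D d x := by
  obtain ⟨x, hxD, a, ha, b, hb, hab, h1, -⟩ := hDD
  have hne : a ≠ b := by rintro rfl; exact h1 (sq_one hD ha)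
  rcases Relation.ReflTransGen.cases_head (hc a ha b hb) with h | ⟨y, hy, -⟩
  · exact absurd h hne
  · exact ⟨a, y, hy⟩

lemma twoZCore_ne_top : twoZCore G ≠ ⊤ := by
  intro htop
  haveI := Cfsg.Agent.H19.pCore_normal 2 G
  obtain ⟨d, x, hx⟩ := exists_odd_edge hD hc hDD
  obtain ⟨g, hg⟩ := exists_conj_of_oddAdj hD hx
  have hcen : QuotientGroup.mk' (Cfsg.pCore 2 G) g * QuotientGroup.mk' (Cfsg.pCore 2 G) d
      = QuotientGroup.mk' (Cfsg.pCore 2 G) d * QuotientGroup.mk' (Cfsg.pCore 2 G) g :=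
    Subgroup.mem_center_iff.mp (show d ∈ twoZCore G by rw [htop]; trivial) _
  have hmem : d⁻¹ * x ∈ Cfsg.pCore 2 G := by
    rw [← QuotientGroup.eq]
    show QuotientGroup.mk' (Cfsg.pCore 2 G) d = QuotientGroup.mk' (Cfsg.pCore 2 G) x
    rw [← hg, map_mul, map_mul, map_inv, hcen]
    group
  have hne : Cfsg.pCore 2 G ≠ ⊤ := by
    intro h
    obtain ⟨n, hn⟩ := Cfsg.Agent.H19.pCore_isPGroup (G := G) 2 ⟨d * x, by rw [h]; trivial⟩
    have hn' : (d * x) ^ (2 ^ n) = 1 := by simpa using congrArg Subtype.val hn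
    have h4 : orderOf (d * x) ∣ 1 :=
      Nat.Coprime.dvd_of_dvd_mul_right
        (Nat.Coprime.pow_right n ((Nat.coprime_two_right).mpr hx.2.2.2))
        (by simpa using orderOf_dvd_of_pow_eq_one hn')
    have := orderOf_eq_one_iff.mp (Nat.dvd_one.mp h4)
    exact hx.2.2.1 (by rw [eq_inv_of_mul_eq_one_left this, inv_self hD hx.2.1])
  exact no_odd_in_coset hD hc hDD hne hx hmem

lemma simple_quotient : IsSimpleGroup (G ⧸ twoZCore G) := by
  have hne := twoZCore_ne_top hD hc hDD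
  haveI : Nontrivial (G ⧸ twoZCore G) := QuotientGroup.nontrivial_iff.mpr hne
  refine ⟨fun H hH => ?_⟩
  by_cases h : H.comap (QuotientGroup.mk' (twoZCore G)) = ⊤
  · right
    rw [eq_top_iff]
    intro y _
    obtain ⟨y, rfl⟩ := QuotientGroup.mk'_surjective _ y
    exact show y ∈ H.comap (QuotientGroup.mk' (twoZCore G)) by rw [h]; trivial
  · left
    rw [eq_bot_iff]
    intro y hy
    obtain ⟨y, rfl⟩ := QuotientGroup.mk'_surjective _ y
    haveI := hH
    exact (QuotientGroup.eq_one_iff y).mpr (le_twoZCore hD hc hDD h hy)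

lemma not_solvable : ¬ Group.IsSolvable G := by
  intro h
  haveI := h
  have hsimp := simple_quotient hD hc hDD
  -- a solvable simple quotient has abelian image, so `G'` is proper
  obtain ⟨d, x, hx⟩ := exists_odd_edge hD hc hDD
  obtain ⟨g, hg⟩ := exists_conj_of_oddAdj hD hx
  haveI : Nontrivial G := ⟨⟨d, 1, ne_one hD hx.1⟩⟩
  have hne : commutator G ≠ ⊤ := (Group.IsSolvable.commutator_lt_top_of_nontrivial G).ne
  refine no_odd_in_coset hD hc hDD hne hx ?_
  rw [← hg, show d⁻¹ * (g * d * g⁻¹) = ⁅d⁻¹, g⁆ by rw [commutatorElement_def]; group]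
  exact Subgroup.commutator_mem_commutator (Subgroup.mem_top _) (Subgroup.mem_top _)

lemma solvableRadical_eq : solvableRadical G = twoZCore G := by
  refine le_antisymm (sSup_le ?_) (le_sSup ?_)
  · rintro N ⟨hN, hsol⟩
    haveI := hN
    refine le_twoZCore hD hc hDD fun h => not_solvable hD hc hDD ?_
    subst h
    exact solvable_of_surjective (f := (⊤ : Subgroup G).subtype) (fun y => ⟨⟨y, trivial⟩, rfl⟩)
  · refine ⟨inferInstance, ?_⟩
    haveI := Cfsg.Agent.H19.pCore_normal 2 G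
    haveI : Fact (Nat.Prime 2) := ⟨Nat.prime_two⟩
    haveI : Group.IsNilpotent (Cfsg.pCore 2 G) := (Cfsg.Agent.H19.pCore_isPGroup (G := G) 2).isNilpotent
    have hle : Cfsg.pCore 2 G ≤ twoZCore G := fun y hy => by
      show QuotientGroup.mk' (Cfsg.pCore 2 G) y ∈ Subgroup.center _
      rw [show QuotientGroup.mk' (Cfsg.pCore 2 G) y = 1 from (QuotientGroup.eq_one_iff y).mpr hy]
      exact one_mem _
    let f : twoZCore G →* Subgroup.center (G ⧸ Cfsg.pCore 2 G) :=
      ((QuotientGroup.mk' (Cfsg.pCore 2 G)).comp (twoZCore G).subtype).codRestrict _ fun y => y.2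
    haveI : Group.IsSolvable (Subgroup.center (G ⧸ Cfsg.pCore 2 G)) :=
      Group.isSolvable_of_comm fun a b => Subtype.ext (Subgroup.mem_center_iff.mp b.2 a)
    refine solvable_of_ker_le_range (Subgroup.inclusion hle) f ?_
    intro y hy
    exact ⟨⟨y, (QuotientGroup.eq_one_iff _).mp (congrArg Subtype.val (MonoidHom.mem_ker.mp hy))⟩,
      rfl⟩

end Cfsg.Agent.H92.RI
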